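import Cfsg.Agent.H641.Gow.Mackey

/-!
# Mackey's formula for two subgroups on representatives of the double cosets (S4884, helper743)

`classInner_indFun_eq_sum₂` : `P, Q ≤ G`, `r i` representatives with disjoint double cosets `P (r i) Q` such that the Mackey
term of every other `x` vanishes: `[Ind α, Ind β]` is the sum over `i` of `|P ∩ (r i) Q (r i)⁻¹|⁻¹ * twist₂ (r i)`.
-/

set_option autoImplicit false

open scoped ComplexConjugate
open Cfsg

namespace Cfsg.Agent.H743.GG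

open Cfsg.Agent.OddOrderCharacters.Clifford Cfsg.Agent.Characters

variable {G : Type*} [Group G]

/-- The term of `x` in the Mackey formula. -/
noncomputable def twist₂ (P Q : Subgroup G) [Fintype P] (α : P → ℂ) (β : Q → ℂ) (x : G) : ℂ :=
  ∑ t : P, α t * conj (extendByZero Q β (x⁻¹ * t * x))

theorem twist₂_def (P Q : Subgroup G) [Fintype P] (α : P → ℂ) (β : Q → ℂ) (x : G) :
    twist₂ P Q α β x = ∑ t : P, α t * conj (extendByZero Q β (x⁻¹ * t * x)) := rfl

theorem classInner_indFun_indFun₂ [Fintype G] (P Q : Subgroup G) [Fintype P] (α : P → ℂ) (β : Q → ℂ) :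
    classInner (indFun P α) (indFun Q β)
      = (Nat.card P : ℂ)⁻¹ * ((Nat.card Q : ℂ)⁻¹ * ∑ x : G, twist₂ P Q α β x) := by
  rw [classInner_indFun P α _ (isClassFunction_indFun Q β), classInner_apply]
  congr 1
  simp only [twist₂_def]
  rw [Finset.sum_comm, Finset.mul_sum]
  refine Finset.sum_congr rfl fun t _ => ?_
  rw [indFun_apply, map_mul, map_sum, map_inv₀, Complex.conj_natCast, ← Finset.mul_sum]
  ring

/-- `P ∩ x Q x⁻¹`, as a subgroup of `P`. -/
def dsub₂ (P Q : Subgroup G) (x : G) : Subgroup P :=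
  Q.comap ((MulAut.conj x⁻¹).toMonoidHom.comp P.subtype)

theorem mem_dsub₂ (P Q : Subgroup G) (x : G) (t : P) :
    t ∈ dsub₂ P Q x ↔ x⁻¹ * (t : G) * x ∈ Q := by
  unfold dsub₂
  rw [Subgroup.mem_comap]
  simp

/-- Conjugation by `x⁻¹`, as a homomorphism from `P ∩ x Q x⁻¹` to `Q`. -/
def dhom₂ (P Q : Subgroup G) (x : G) : dsub₂ P Q x →* Q where
  toFun d := ⟨x⁻¹ * ((d : P) : G) * x, (mem_dsub₂ P Q x d).1 d.2⟩
  map_one' := by
    apply Subtype.ext
    simp
  map_mul' a b := by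
    apply Subtype.ext
    simp [mul_assoc]

/-- The Mackey term as an inner product. -/
theorem twist₂_eq_classInner [Finite G] (P Q : Subgroup G) [Fintype P] (α : P → ℂ) (β : Q → ℂ) (x : G)
    [Fintype (dsub₂ P Q x)] :
    (Fintype.card (dsub₂ P Q x) : ℂ)⁻¹ * twist₂ P Q α β x =
      classInner (α ∘ (dsub₂ P Q x).subtype) (β ∘ dhom₂ P Q x) := by
  classical
  rw [classInner_apply, Nat.card_eq_fintype_card, twist₂_def, sum_eq_sum_subgroup (dsub₂ P Q x)]
  · congr 1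
    refine Finset.sum_congr rfl fun d _ => ?_
    rw [ext_apply_mem Q β _ ((mem_dsub₂ P Q x d).1 d.2)]
    rfl
  · intro t ht
    rw [mem_dsub₂] at ht
    rw [ext_apply_not_mem Q β _ ht, map_zero, mul_zero]

/-- **The Mackey term of `x` vanishes** if the two characters are orthogonal on a subgroup `L ≤ P ∩ x Q x⁻¹`. -/
theorem twist₂_eq_zero_of_sub [Finite G] (P Q : Subgroup G) [Fintype P] {α : P → ℂ} {β : Q → ℂ} (hα : IsCharacter P α)
    (hβ : IsCharacter Q β) (x : G) (L : Subgroup G) [Fintype L] (hL : L ≤ P) (hL' : ∀ l ∈ L, x⁻¹ * l * x ∈ Q)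
    (h : ∑ l : L, α ⟨l, hL l.2⟩ * conj (β ⟨x⁻¹ * l * x, hL' l l.2⟩) = 0) : twist₂ P Q α β x = 0 := by
  classical
  have : Fintype (dsub₂ P Q x) := Fintype.ofFinite _
  have hα' : IsCharacter (dsub₂ P Q x) (α ∘ (dsub₂ P Q x).subtype) := Core.isCharacter_comp _ hα
  have hβ' : IsCharacter (dsub₂ P Q x) (β ∘ dhom₂ P Q x) := Core.isCharacter_comp _ hβ
  have h0 : classInner (α ∘ (dsub₂ P Q x).subtype) (β ∘ dhom₂ P Q x) = 0 := by
    let f : L →* dsub₂ P Q x :=
      { toFun := fun l => ⟨⟨l, hL l.2⟩, (mem_dsub₂ P Q x _).2 (hL' l l.2)⟩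
        map_one' := rfl
        map_mul' := fun _ _ => rfl }
    refine Cfsg.Agent.H53.HC.classInner_eq_zero_of_comp f hα' hβ' ?_
    rw [Core.classInner_def]
    rw [show (∑ l : L, ((α ∘ (dsub₂ P Q x).subtype) ∘ f) l * conj (((β ∘ dhom₂ P Q x) ∘ f) l)) = 0 from h, mul_zero]
  rw [← twist₂_eq_classInner] at h0
  have hd : (Fintype.card (dsub₂ P Q x) : ℂ) ≠ 0 := by
    have : 0 < Fintype.card (dsub₂ P Q x) := Fintype.card_pos
    exact_mod_cast this.ne'
  rcases mul_eq_zero.1 h0 with h | h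
  · exact absurd h (inv_ne_zero hd)
  · exact h

theorem twist₂_mul [Finite G] (P Q : Subgroup G) [Fintype P] {α : P → ℂ} {β : Q → ℂ} (hα : IsClassFunction P α)
    (hβ : IsClassFunction Q β) {a b : G} (ha : a ∈ P) (hb : b ∈ Q) (y : G) :
    twist₂ P Q α β (a * y * b) = twist₂ P Q α β y := by
  classical
  rw [twist₂_def, twist₂_def]
  refine Fintype.sum_equiv (MulAut.conj (⟨a, ha⟩ : P)⁻¹).toEquiv _ _ fun t => ?_
  have e1 : α ((MulAut.conj (⟨a, ha⟩ : P)⁻¹).toEquiv t) = α t := by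
    exact hα t (⟨a, ha⟩ : P)⁻¹
  have e2 : ((((MulAut.conj (⟨a, ha⟩ : P)⁻¹).toEquiv t : P)) : G) = a⁻¹ * t * a := by
    simp [MulAut.conj_apply]
  rw [e1, e2]
  congr 2
  have e3 : (a * y * b)⁻¹ * (t : G) * (a * y * b) = b⁻¹ * (y⁻¹ * (a⁻¹ * t * a) * y) * b := by group
  rw [e3, Cfsg.Agent.H53.HC.ext_conj hβ hb]

/-- the double coset -/
def DC₂ (P Q : Subgroup G) (y x : G) : Prop := ∃ a ∈ P, ∃ b ∈ Q, x = a * y * b

/-- the number of ways to write an element of the double coset -/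
theorem card_fiber₂ [Fintype G] (P Q : Subgroup G) [Fintype P] [Fintype Q] (y x : G) (hx : DC₂ P Q y x)
    [DecidablePred fun p : P × Q => (p.1 : G) * y * p.2 = x] [Fintype (dsub₂ P Q y)] :
    (Finset.univ.filter fun p : P × Q => (p.1 : G) * y * p.2 = x).card = Fintype.card (dsub₂ P Q y) := by
  classical
  obtain ⟨a, ha, b, hb, rfl⟩ := hx
  rw [← Finset.card_univ]
  symm
  refine Finset.card_bij
    (fun d _ => ((⟨a, ha⟩ : P) * (d : P),
      (⟨y⁻¹ * ((d : P) : G)⁻¹ * y * b, by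
        have h1 := inv_mem ((mem_dsub₂ P Q y d).1 d.2)
        have h2 : (y⁻¹ * ((d : P) : G) * y)⁻¹ = y⁻¹ * ((d : P) : G)⁻¹ * y := by group
        rw [h2] at h1
        exact mul_mem h1 hb⟩ : Q))) ?_ ?_ ?_
  · intro d _
    rw [Finset.mem_filter]
    refine ⟨Finset.mem_univ _, ?_⟩
    simp only [Subgroup.coe_mul]
    group
  · intro d _ e _ hde
    have h1 := congrArg Prod.fst hde
    exact Subtype.ext (mul_left_cancel h1)
  · rintro ⟨c, e⟩ hce
    rw [Finset.mem_filter] at hce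
    have h1 : (c : G) * y * e = a * y * b := hce.2
    have h2 : y⁻¹ * (a⁻¹ * c) * y = b * (e : G)⁻¹ := by
      have : (c : G) = a * y * b * (e : G)⁻¹ * y⁻¹ := by rw [← h1]; group
      rw [this]; group
    have h3 : (⟨a, ha⟩ : P)⁻¹ * c ∈ dsub₂ P Q y := by
      rw [mem_dsub₂]
      have : y⁻¹ * (((⟨a, ha⟩ : P)⁻¹ * c : P) : G) * y = b * (e : G)⁻¹ := h2
      rw [this]
      exact mul_mem hb (inv_mem e.2)
    refine ⟨⟨_, h3⟩, Finset.mem_univ _, ?_⟩
    apply Prod.ext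
    · apply Subtype.ext
      simp
    · apply Subtype.ext
      change y⁻¹ * (((⟨a, ha⟩ : P)⁻¹ * c : P) : G)⁻¹ * y * b = e
      have e1 : y⁻¹ * (((⟨a, ha⟩ : P)⁻¹ * c : P) : G)⁻¹ * y = (y⁻¹ * (a⁻¹ * c) * y)⁻¹ := by
        have : (((⟨a, ha⟩ : P)⁻¹ * c : P) : G) = a⁻¹ * c := rfl
        rw [this]; group
      rw [e1, h2]
      group

/-- The sum of a function which is constant on the double coset of `y`. -/
theorem sum_double_coset₂ [Fintype G] (P Q : Subgroup G) [Fintype P] [Fintype Q] (y : G) (F : G → ℂ)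
    (hF : ∀ x, DC₂ P Q y x → F x = F y) [DecidablePred (DC₂ P Q y)] [Fintype (dsub₂ P Q y)] :
    ∑ x ∈ Finset.univ.filter (DC₂ P Q y), F x =
      (Nat.card P : ℂ) * (Nat.card Q : ℂ) * ((Fintype.card (dsub₂ P Q y) : ℂ)⁻¹ * F y) := by
  classical
  have hd : (Fintype.card (dsub₂ P Q y) : ℂ) ≠ 0 := by
    have : 0 < Fintype.card (dsub₂ P Q y) := Fintype.card_pos
    exact_mod_cast this.ne'
  have h1 : ∑ p : P × Q, F ((p.1 : G) * y * p.2) = (Nat.card P : ℂ) * (Nat.card Q : ℂ) * F y := by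
    have : ∀ p : P × Q, F ((p.1 : G) * y * p.2) = F y := fun p => hF _ ⟨p.1, p.1.2, p.2, p.2.2, rfl⟩
    simp only [this]
    rw [Finset.sum_const, Finset.card_univ, Fintype.card_prod, nsmul_eq_mul, Nat.card_eq_fintype_card,
      Nat.card_eq_fintype_card]
    push_cast
    ring
  have h2 : ∑ p : P × Q, F ((p.1 : G) * y * p.2) =
      ∑ x ∈ Finset.univ.filter (DC₂ P Q y), (Fintype.card (dsub₂ P Q y) : ℂ) * F x := by
    have h3 : ∀ p ∈ (Finset.univ : Finset (P × Q)), (p.1 : G) * y * p.2 ∈ Finset.univ.filter (DC₂ P Q y) :=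
      fun p _ => by
        rw [Finset.mem_filter]
        exact ⟨Finset.mem_univ _, p.1, p.1.2, p.2, p.2.2, rfl⟩
    rw [← Finset.sum_fiberwise_of_maps_to h3]
    refine Finset.sum_congr rfl fun x hx => ?_
    rw [Finset.mem_filter] at hx
    have h4 : ∀ p ∈ Finset.univ.filter (fun p : P × Q => (p.1 : G) * y * p.2 = x), F ((p.1 : G) * y * p.2) = F x := by
      intro p hp
      rw [(Finset.mem_filter.1 hp).2]
    rw [Finset.sum_congr rfl h4, Finset.sum_const, card_fiber₂ P Q y x hx.2, nsmul_eq_mul]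
  rw [← Finset.mul_sum] at h2
  rw [h1] at h2
  have h5 : ∑ x ∈ Finset.univ.filter (DC₂ P Q y), F x =
      (Fintype.card (dsub₂ P Q y) : ℂ)⁻¹ * ((Nat.card P : ℂ) * (Nat.card Q : ℂ) * F y) := by
    rw [h2, inv_mul_cancel_left₀ hd]
  rw [h5]
  ring

/-- **Mackey's formula** on representatives. -/
theorem classInner_indFun_eq_sum₂ [Fintype G] (P Q : Subgroup G) [Fintype P] [Fintype Q] {α : P → ℂ} {β : Q → ℂ}
    (hα : IsClassFunction P α) (hβ : IsClassFunction Q β) {ι : Type*} [Fintype ι] (r : ι → G)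
    (hdis : ∀ i j, DC₂ P Q (r i) (r j) → i = j)
    (h0 : ∀ x, (∀ i, ¬ DC₂ P Q (r i) x) → twist₂ P Q α β x = 0) [∀ i, Fintype (dsub₂ P Q (r i))] :
    classInner (indFun P α) (indFun Q β) =
      ∑ i, (Fintype.card (dsub₂ P Q (r i)) : ℂ)⁻¹ * twist₂ P Q α β (r i) := by
  classical
  rw [classInner_indFun_indFun₂]
  have hP : (Nat.card P : ℂ) ≠ 0 := card_ne_zero'
  have hQ : (Nat.card Q : ℂ) ≠ 0 := card_ne_zero'
  have h1 : ∑ x : G, twist₂ P Q α β x = ∑ i, ∑ x ∈ Finset.univ.filter (DC₂ P Q (r i)), twist₂ P Q α β x := by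
    rw [← Finset.sum_biUnion]
    · symm
      refine Finset.sum_subset (Finset.subset_univ _) fun x _ hx => ?_
      apply h0
      intro i hi
      apply hx
      rw [Finset.mem_biUnion]
      exact ⟨i, Finset.mem_univ _, Finset.mem_filter.2 ⟨Finset.mem_univ _, hi⟩⟩
    · intro i _ j _ hij
      rw [Function.onFun, Finset.disjoint_left]
      intro x hxi hxj
      apply hij
      rw [Finset.mem_filter] at hxi hxj
      obtain ⟨a, ha, b, hb, e⟩ := hxi.2
      obtain ⟨c, hc, d, hd, e2⟩ := hxj.2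
      apply hdis
      refine ⟨c⁻¹ * a, mul_mem (inv_mem hc) ha, b * d⁻¹, mul_mem hb (inv_mem hd), ?_⟩
      have e3 : r j = c⁻¹ * x * d⁻¹ := by rw [e2]; group
      rw [e3, e]
      group
  have h2 : ∀ i, ∑ x ∈ Finset.univ.filter (DC₂ P Q (r i)), twist₂ P Q α β x =
      (Nat.card P : ℂ) * (Nat.card Q : ℂ) * ((Fintype.card (dsub₂ P Q (r i)) : ℂ)⁻¹ * twist₂ P Q α β (r i)) := by
    intro i
    refine sum_double_coset₂ P Q (r i) _ ?_
    rintro x ⟨a, ha, b, hb, rfl⟩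
    exact twist₂_mul P Q hα hβ ha hb _
  rw [h1, Finset.sum_congr rfl fun i _ => h2 i, ← Finset.mul_sum, mul_comm (Nat.card P : ℂ), mul_assoc,
    inv_mul_cancel_left₀ hQ, inv_mul_cancel_left₀ hP]

end Cfsg.Agent.H743.GG
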