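import Cfsg.Agent.H641.Gow.Rgd
import Cfsg.Agent.H743.GG.Mackey2

/-!
# The Mackey formula for Harish-Chandra induction of cuspidal characters from two Levi subgroups (S4884, helper743)

`G` a finite group with a root group datum, `J`, `K` sets of nodes, `α ∈ Irr(L_J)`, `β ∈ Irr(L_K)` cuspidal:

* `classInner_HC₂` : `[HC α, HC β] = #{w : w maps the simple roots of K onto those of J, α = β^w}`;
* `HC_eq_of_inner` : if `[HC α, HC β] ≠ 0` then `HC α = HC β`.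
-/

set_option autoImplicit false

open scoped ComplexConjugate Pointwise
open Cfsg

namespace Cfsg.Agent.H743.GG

open Cfsg.Agent.OddOrderCharacters.Clifford Cfsg.Agent.Characters Cfsg.Agent.H53.HC Cfsg.Agent.H641.Gow

open CoxeterSystem Cfsg.Agent.ChevalleyStructure.CoxeterGeom Cfsg.Agent.Tits.Roots Cfsg.Agent.Tits.Core
  Cfsg.Agent.Tits.Exchange Cfsg.Agent.Nodes.Reps Cfsg.Agent.Nodes.BNOf Cfsg.Agent.Nodes.StabComb
  Cfsg.Agent.Nodes.Bruhat Cfsg.Agent.Nodes.OppDec Cfsg.Agent.Nodes.LeviDec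

variable {I W Y : Type*} [Fintype I] [DecidableEq I] [Group W] [Group Y] {M : CoxeterMatrix I}
  {cs : CoxeterSystem M W} {A : I → I → ℤ} {h : IsCartan M A} {p : ℕ} {T : Subgroup Y} {n : I → Y}
  {X : (I → ℤ) → Subgroup Y}

/-- `w` maps the simple roots of `K` onto the simple roots of `J` -/
def Perm₂ (cs : CoxeterSystem M W) (h : IsCartan M A) (J K : Set I) (w : W) : Prop :=
  (∀ i ∈ J, ∃ k ∈ K, rep cs h w⁻¹ (sr i) = sr k) ∧ ∀ k ∈ K, ∃ i ∈ J, rep cs h w (sr k) = sr i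

theorem Perm₂.inv {J K : Set I} {w : W} (hw : Perm₂ cs h J K w) : Perm₂ cs h K J w⁻¹ :=
  ⟨by rw [inv_inv]; exact hw.2, hw.1⟩

theorem Perm₂.mul {J K L : Set I} {v w : W} (hv : Perm₂ cs h J K v) (hw : Perm₂ cs h K L w) :
    Perm₂ cs h J L (v * w) := by
  constructor
  · intro i hi
    obtain ⟨k, hk, e⟩ := hv.1 i hi
    obtain ⟨l, hl, e2⟩ := hw.1 k hk
    exact ⟨l, hl, by rw [mul_inv_rev, rep_mul_apply, e, e2]⟩
  · intro l hl
    obtain ⟨k, hk, e⟩ := hw.2 l hl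
    obtain ⟨i, hi, e2⟩ := hv.2 k hk
    exact ⟨i, hi, by rw [rep_mul_apply, e, e2]⟩

/-- **Elements mapping the simple roots of `K` onto those of `J` are determined by their double cosets.** -/
theorem perm₂_eq {J K : Set I} {w w' y₁ y₂ : W} (hw : Perm₂ cs h J K w) (hw' : Perm₂ cs h J K w') (h1 : y₁ ∈ WJ cs J)
    (h2 : y₂ ∈ WJ cs K) (he : y₁ * w' = w * y₂) : w = w' := by
  have hz : w⁻¹ * w' = w⁻¹ * (y₁⁻¹ * (w * y₂)) := by rw [← he, inv_mul_cancel_left]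
  have key : w⁻¹ * w' = 1 := by
    refine eq_one_of_nonneg (cs := cs) (h := h) fun i => ?_
    by_cases hi : i ∈ K
    · obtain ⟨k, hk, e⟩ := hw'.2 i hi
      obtain ⟨l, -, e2⟩ := hw.1 k hk
      rw [rep_mul_apply, e, e2]
      exact sr_nonneg l
    · refine nonneg_of_pos_apply ((isRoot_sr cs h i).act _) (k := i) ?_
      have ha : ∀ k, k ∉ K → (rep cs h y₂ (sr i) - sr i) k = 0 := fun k hk => by
        rw [Pi.sub_apply, rep_WJ_apply h2 _ hk, sub_self]
      have hb : ∀ k, k ∉ J → (rep cs h y₁⁻¹ (rep cs h w (rep cs h y₂ (sr i))) -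
          rep cs h w (rep cs h y₂ (sr i))) k = 0 := fun k hk => by
        rw [Pi.sub_apply, rep_WJ_apply (inv_mem h1) _ hk, sub_self]
      have e3 : rep cs h (w⁻¹ * w') (sr i) =
          rep cs h y₂ (sr i) + rep cs h w⁻¹ (rep cs h y₁⁻¹ (rep cs h w (rep cs h y₂ (sr i))) -
            rep cs h w (rep cs h y₂ (sr i))) := by
        rw [hz, rep_mul_apply, rep_mul_apply, rep_mul_apply, map_sub, rep_inv_apply]
        abel
      have hc : ∀ x : I → ℤ, (∀ k, k ∉ J → x k = 0) → rep cs h w⁻¹ x i = 0 := by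
        intro x hx
        rw [eq_sum_sr x, map_sum, Finset.sum_apply]
        refine Finset.sum_eq_zero fun j _ => ?_
        rw [map_smul, Pi.smul_apply]
        by_cases hj : j ∈ J
        · obtain ⟨l, hl, e⟩ := hw.1 j hj
          rw [e, sr_ne (by rintro rfl; exact hi hl), smul_zero]
        · rw [hx j hj, zero_smul]
      rw [e3, Pi.add_apply, hc _ hb, add_zero, rep_WJ_apply h2 _ hi, sr_self]
      exact one_pos
  exact (inv_mul_eq_one.1 key)

theorem perm₂_length {J K : Set I} {w : W} (hw : Perm₂ cs h J K w) {y : W} (hy : y ∈ WJ cs K) :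
    cs.length (w * y) = cs.length w + cs.length y := by
  have h1 : IsMinL cs K w⁻¹ := by
    rw [isMinL_iff]
    intro i hi
    have h2 : cs.length w < cs.length (w * cs.simple i) := by
      rw [lt_iff' cs h w i]
      obtain ⟨k, -, e⟩ := hw.2 i hi
      change 0 ≤ rep cs h w (sr i)
      rw [e]
      exact sr_nonneg k
    rw [cs.length_inv, ← cs.length_inv (cs.simple i * w⁻¹), mul_inv_rev, inv_inv, cs.inv_simple]
    exact h2
  exact (isMinL_inv_iff cs).1 h1 y hy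

theorem perm₂_length' {J K : Set I} {w : W} (hw : Perm₂ cs h J K w) {y : W} (hy : y ∈ WJ cs J) :
    cs.length (y * w) = cs.length y + cs.length w := by
  rw [← cs.length_inv, mul_inv_rev, perm₂_length hw.inv (inv_mem hy), cs.length_inv, cs.length_inv, add_comm]

/-- the alternatives for a minimal element -/
theorem perm₂_or {J K : Set I} {w : W} (h1 : ∀ i ∈ J, 0 ≤ rep cs h w⁻¹ (sr i))
    (h2 : ∀ k ∈ K, 0 ≤ rep cs h w (sr k)) :
    Perm₂ cs h J K w ∨ (∃ i ∈ J, ∀ x ∈ PosRad cs h J i, rep cs h w⁻¹ x ∈ NotJ cs h K) ∨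
      ∃ k ∈ K, ∀ x ∈ PosRad cs h K k, rep cs h w x ∈ NotJ cs h J := by
  have aux : ∀ {J K : Set I} {w : W}, (∀ i ∈ J, 0 ≤ rep cs h w⁻¹ (sr i)) →
      (¬ ∀ i ∈ J, ∀ k, k ∉ K → rep cs h w⁻¹ (sr i) k = 0) →
      ∃ i ∈ J, ∀ x ∈ PosRad cs h J i, rep cs h w⁻¹ x ∈ NotJ cs h K := by
    intro J K w h1 hc
    push Not at hc
    obtain ⟨i, hi, k, hk, hne⟩ := hc
    have hpos : 0 < rep cs h w⁻¹ (sr i) k := lt_of_le_of_ne (h1 i hi k) (Ne.symm hne)
    refine ⟨i, hi, ?_⟩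
    rintro x ⟨hx, hxi⟩
    refine ⟨hx.1.act _, rep_nonneg_of_supp h1 hx.2.1 hx.2.2, k, hk, ?_⟩
    exact lt_of_lt_of_le (mul_pos hxi hpos) (rep_apply_ge h1 hx.2.1 hx.2.2 i k)
  by_cases hc : ∀ i ∈ J, ∀ k, k ∉ K → rep cs h w⁻¹ (sr i) k = 0
  · by_cases hd : ∀ k ∈ K, ∀ i, i ∉ J → rep cs h w (sr k) i = 0
    · left
      have key : ∀ {J K : Set I} {w : W}, (∀ i ∈ J, 0 ≤ rep cs h w⁻¹ (sr i)) → (∀ k ∈ K, 0 ≤ rep cs h w (sr k)) →
          (∀ i ∈ J, ∀ k, k ∉ K → rep cs h w⁻¹ (sr i) k = 0) → ∀ i ∈ J, ∃ k ∈ K, rep cs h w⁻¹ (sr i) = sr k := by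
        intro J K w ha hb hd i hi
        have h3 := ht_le_rep hb (ha i hi) (hd i hi)
        rw [rep_apply_inv] at h3
        have h4 : ht (sr i : I → ℤ) = 1 := by
          unfold ht sr
          simp
        rw [h4] at h3
        obtain ⟨k, hk, hk0⟩ := eq_sr_of_ht ((isRoot_sr cs h i).act w⁻¹) (ha i hi) h3
        refine ⟨k, ?_, hk⟩
        by_contra hkK
        rw [hd i hi k hkK] at hk0
        exact lt_irrefl _ hk0
      refine ⟨key h1 h2 hc, ?_⟩
      have := key (J := K) (K := J) (w := w⁻¹) (by rw [inv_inv]; exact h2) h1 (by rw [inv_inv]; exact hd)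
      rwa [inv_inv] at this
    · right; right
      have := aux (J := K) (K := J) (w := w⁻¹) (by rw [inv_inv]; exact h2) (by rw [inv_inv]; exact hd)
      rwa [inv_inv] at this
  · right; left
    exact aux h1 hc

variable (R : RGD cs h p T n X)

include R

/-- Every element is `a g b` with `a ∈ P_J`, `b ∈ P_K` and `g` over an element minimal in its double coset. -/
theorem exists_min_rep₂ [Finite W] (hG : GG cs h T X = ⊤) (J K : Set I) (x : Y) :
    ∃ a ∈ PJ cs h T X J, ∃ b ∈ PJ cs h T X K, ∃ w g, Rp cs R.nsys w g ∧ x = a * g * b ∧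
      (∀ i ∈ J, 0 ≤ rep cs h w⁻¹ (sr i)) ∧ ∀ i ∈ K, 0 ≤ rep cs h w (sr i) := by
  classical
  have hex : ∃ m : ℕ, ∃ w, cs.length w = m ∧ ∃ a ∈ PJ cs h T X J, ∃ b ∈ PJ cs h T X K, ∃ g,
      Rp cs R.nsys w g ∧ x = a * g * b := by
    obtain ⟨w, b₁, hb₁, k, hk, b₂, hb₂, e⟩ := (mem_GG R).1 (show x ∈ GG cs h T X by rw [hG]; exact Subgroup.mem_top x)
    exact ⟨_, w, rfl, b₁, B_le_PJ hb₁, b₂, B_le_PJ hb₂, k, hk, e⟩
  obtain ⟨w, hw, a, ha, b, hb, g, hg, e⟩ := Nat.find_spec hex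
  have hmin := fun m hm => Nat.find_min hex (m := m) hm
  have hmin' : ∀ v, (∃ a ∈ PJ cs h T X J, ∃ b ∈ PJ cs h T X K, ∃ g, Rp cs R.nsys v g ∧ x = a * g * b) →
      cs.length w ≤ cs.length v := by
    intro v hv
    rw [hw]
    by_contra hcon
    exact hmin _ (not_le.1 hcon) ⟨v, rfl, hv⟩
  refine ⟨a, ha, b, hb, w, g, hg, e, ?_, ?_⟩
  · intro i hi
    refine nonneg_of_lt cs h w⁻¹ i ?_
    rw [cs.length_inv, ← cs.length_inv (w⁻¹ * cs.simple i), mul_inv_rev, inv_inv, cs.inv_simple]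
    have h1 := hmin' (cs.simple i * w) ⟨a * (n i)⁻¹, mul_mem ha (inv_mem (LJ_le_PJ (n_mem_LJ R hi))), b, hb,
      n i * g, (rp_simple cs R.nsys i).mul hg, by rw [e]; group⟩
    have h2 := cs.length_simple_mul w i
    omega
  · intro i hi
    refine nonneg_of_lt cs h w i ?_
    have h1 := hmin' (w * cs.simple i) ⟨a, ha, (n i)⁻¹ * b, mul_mem (inv_mem (LJ_le_PJ (n_mem_LJ R hi))) hb,
      g * n i, hg.mul (rp_simple cs R.nsys i), by rw [e]; group⟩
    have h2 := cs.length_mul_simple w i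
    omega

theorem conj_mem_LJ₂ {J K : Set I} {w : W} {g : Y} (hg : Rp cs R.nsys w g) (hw : Perm₂ cs h J K w) {l : Y}
    (hl : l ∈ LJ cs h T X J) : g⁻¹ * l * g ∈ LJ cs h T X K := by
  obtain ⟨t, ht, m, hm, rfl⟩ := (mem_LJ_iff_mul R J).1 hl
  have e : g⁻¹ * (t * m) * g = (g⁻¹ * t * g) * (g⁻¹ * m * g) := by group
  rw [e]
  have hkey : ∀ x ∈ RootsJ cs h J, rep cs h w⁻¹ x ∈ RootsJ cs h K := by
    intro x hx
    refine ⟨hx.1.act _, fun k hk => ?_⟩
    rw [eq_sum_sr x, map_sum, Finset.sum_apply]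
    refine Finset.sum_eq_zero fun j _ => ?_
    rw [map_smul, Pi.smul_apply]
    by_cases hj : j ∈ J
    · obtain ⟨l, hl, e⟩ := hw.1 j hj
      rw [e, sr_ne (by rintro rfl; exact hk hl), smul_zero]
    · rw [hx.2 j hj, zero_smul]
  refine mul_mem (T_le_LJ ?_) (MJ_le_LJ K (conj_mem_Sup' R hg (fun x hx => hx.1) hkey hm))
  have := (Subgroup.mem_normalizer_iff.1 (inv_mem hg.mem_normalizer) t).1 ht
  rwa [inv_inv] at this

theorem conj_mem_LJ₂' {J K : Set I} {w : W} {g : Y} (hg : Rp cs R.nsys w g) (hw : Perm₂ cs h J K w) {l : Y}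
    (hl : l ∈ LJ cs h T X K) : g * l * g⁻¹ ∈ LJ cs h T X J := by
  have := conj_mem_LJ₂ R hg.inv hw.inv hl
  rwa [inv_inv] at this

/-- **`V_J ∩ g P_K g⁻¹ ≤ g V_K g⁻¹`.** -/
theorem conj_mem_VJ₂ [Finite W] [Finite Y] {J K : Set I} {w : W} {g : Y} (hg : Rp cs R.nsys w g)
    (hw : Perm₂ cs h J K w) {v : Y} (hv : v ∈ VJ cs h X J) (hP : g⁻¹ * v * g ∈ PJ cs h T X K) :
    g⁻¹ * v * g ∈ VJ cs h X K := by
  have key : ∀ v ∈ VJ cs h X J, g⁻¹ * v * g ∈ PJ cs h T X K → g⁻¹ * v * g ∈ RGD.Sup X (RGD.Pos cs h) := by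
    intro v hv hP
    obtain ⟨y, hy, hc⟩ := (mem_PJ_iff_cell R).1 hP
    have h1 := Cell.mul_of_length R (perm₂_length hw hy) (cell_of_rp hg) hc
    have h2 : Cell R.nsys cs h X w (v * g) := (cell_of_rp hg).mul_left (RGD.U_le_B (VJ_le_U J hv))
    have e : g * (g⁻¹ * v * g) = v * g := by group
    rw [e] at h1
    have h3 : y = 1 := by
      have := Cell.unique R h1 h2
      rwa [mul_eq_left] at this
    rw [h3] at hc
    have h4 := hc.mem_of_one
    have h5 : ∃ k : ℕ, v ^ p ^ k = 1 := by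
      obtain ⟨k, hk⟩ := (R.isPGroup_Upos) ⟨v, VJ_le_U J hv⟩
      exact ⟨k, congrArg Subtype.val hk⟩
    obtain ⟨k, hk⟩ := h5
    refine R.mem_U_of_mem_B h4 (k := k) ?_
    have e2 : g⁻¹ * v * g = g⁻¹ * v * g⁻¹⁻¹ := by rw [inv_inv]
    rw [e2, conj_pow, hk]
    group
  have h1 := key v hv hP
  obtain ⟨wj, hwj⟩ := exists_isLongest cs K
  obtain ⟨kK, hkK⟩ := exists_rp cs R.nsys wj
  have hkL : kK ∈ LJ cs h T X K := rp_mem_LJ R hwj.1 hkK
  have hl : g * kK⁻¹ * g⁻¹ ∈ LJ cs h T X J := conj_mem_LJ₂' R hg hw (inv_mem hkL)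
  have h2 : (g * kK⁻¹ * g⁻¹) * v * (g * kK⁻¹ * g⁻¹)⁻¹ ∈ VJ cs h X J :=
    (Subgroup.mem_normalizer_iff.1 (LJ_le_normalizer_VJ R J hl) v).1 hv
  have e : g⁻¹ * ((g * kK⁻¹ * g⁻¹) * v * (g * kK⁻¹ * g⁻¹)⁻¹) * g = kK⁻¹ * (g⁻¹ * v * g) * kK := by group
  have h3 := key _ h2 (by
    rw [e]
    exact mul_mem (mul_mem (LJ_le_PJ (inv_mem hkL)) hP) (LJ_le_PJ hkL))
  rw [e] at h3
  have h4 := mem_PW_of_conj R hkK h1 (RGD.U_le_B h3)
  refine RGD.Sup_mono ?_ h4
  rintro x ⟨hx, hx0, hx1⟩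
  rcases mem_PosJ_or_NotJ K hx hx0 with h5 | h5
  · exfalso
    rw [hwj.inv_eq] at hx1
    have h6 := rep_longest_nonpos hwj h5
    exact (hx.act wj).not_pos_neg hx1 h6
  · exact h5

omit R in
/-- `α = β^g` -/
def Tw₂ (cs : CoxeterSystem M W) (h : IsCartan M A) (T : Subgroup Y) (X : (I → ℤ) → Subgroup Y) (J K : Set I)
    (α : ↥(LJ cs h T X J) → ℂ) (β : ↥(LJ cs h T X K) → ℂ) (g : Y) : Prop :=
  ∀ l (hl : l ∈ LJ cs h T X J) (hl' : g⁻¹ * l * g ∈ LJ cs h T X K), α ⟨l, hl⟩ = β ⟨g⁻¹ * l * g, hl'⟩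

omit R in
theorem Tw₂.mul_T {J K : Set I} {α : ↥(LJ cs h T X J) → ℂ} {β : ↥(LJ cs h T X K) → ℂ} (hβ : IsClassFunction _ β)
    {g t : Y} (ht : t ∈ T) (hg : Tw₂ cs h T X J K α β g) : Tw₂ cs h T X J K α β (g * t) := by
  intro l hl hl'
  have e : (g * t)⁻¹ * l * (g * t) = t⁻¹ * (g⁻¹ * l * g) * t := by group
  have hl2 : g⁻¹ * l * g ∈ LJ cs h T X K := by
    have : g⁻¹ * l * g = t * ((g * t)⁻¹ * l * (g * t)) * t⁻¹ := by group
    rw [this]
    exact mul_mem (mul_mem (T_le_LJ ht) hl') (inv_mem (T_le_LJ ht))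
  rw [hg l hl hl2]
  have h1 := hβ ⟨g⁻¹ * l * g, hl2⟩ (⟨t, T_le_LJ ht⟩ : LJ cs h T X K)⁻¹
  rw [← h1]
  congr 1
  apply Subtype.ext
  simp only [Subgroup.coe_mul, InvMemClass.coe_inv, inv_inv]
  rw [e]

theorem Tw₂.congr {J K : Set I} {α : ↥(LJ cs h T X J) → ℂ} {β : ↥(LJ cs h T X K) → ℂ} (hβ : IsClassFunction _ β)
    {w : W} {g g' : Y} (h1 : Rp cs R.nsys w g) (h2 : Rp cs R.nsys w g') (hg : Tw₂ cs h T X J K α β g) :
    Tw₂ cs h T X J K α β g' := by
  have h3 := h1.unique h2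
  have e : g' = g * (g⁻¹ * g') := by group
  rw [e]
  exact hg.mul_T hβ h3

/-- the elements `w` mapping the simple roots of `K` onto those of `J` with `α = β^w` -/
def SS₂ (J K : Set I) (α : ↥(LJ cs h T X J) → ℂ) (β : ↥(LJ cs h T X K) → ℂ) : Set W :=
  {w | Perm₂ cs h J K w ∧ ∃ g, Rp cs R.nsys w g ∧ Tw₂ cs h T X J K α β g}

/-- the values of the inflation at the elements of `P_J ∩ g P_K g⁻¹` -/
theorem infl_eq₂ [Finite W] [Finite Y] {J K : Set I} {w : W} {g : Y} (hg : Rp cs R.nsys w g) (hw : Perm₂ cs h J K w)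
    {α : ↥(LJ cs h T X J) → ℂ} {β : ↥(LJ cs h T X K) → ℂ} (ht : Tw₂ cs h T X J K α β g) {q : Y}
    (hq : q ∈ PJ cs h T X J) (hq' : g⁻¹ * q * g ∈ PJ cs h T X K) :
    (α ∘ projL R J) ⟨q, hq⟩ = (β ∘ projL R K) ⟨g⁻¹ * q * g, hq'⟩ := by
  obtain ⟨l, hl, v, hv, rfl⟩ := (mem_PJ R).1 hq
  have hl' := conj_mem_LJ₂ R hg hw hl
  have e : g⁻¹ * (l * v) * g = (g⁻¹ * l * g) * (g⁻¹ * v * g) := by group
  have hv' : g⁻¹ * v * g ∈ VJ cs h X K := by
    refine conj_mem_VJ₂ R hg hw hv ?_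
    have e2 : g⁻¹ * v * g = (g⁻¹ * l * g)⁻¹ * (g⁻¹ * (l * v) * g) := by group
    rw [e2]
    exact mul_mem (inv_mem (LJ_le_PJ hl')) hq'
  have h1 : (⟨l * v, hq⟩ : PJ cs h T X J) = ⟨l, LJ_le_PJ hl⟩ * ⟨v, VJ_le_PJ hv⟩ := rfl
  have h2 : (⟨g⁻¹ * (l * v) * g, hq'⟩ : PJ cs h T X K) =
      ⟨g⁻¹ * l * g, LJ_le_PJ hl'⟩ * ⟨g⁻¹ * v * g, VJ_le_PJ hv'⟩ := Subtype.ext e
  rw [Function.comp_apply, Function.comp_apply, h1, h2, map_mul, map_mul, projL_L R hl, projL_L R hl', projL_V R hv,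
    projL_V R hv', mul_one, mul_one]
  exact ht l hl hl'

/-- conjugation by `g⁻¹` as an isomorphism `L_J ≃ L_K` -/
def cj₂ {J K : Set I} {w : W} {g : Y} (hg : Rp cs R.nsys w g) (hw : Perm₂ cs h J K w) :
    ↥(LJ cs h T X J) ≃* ↥(LJ cs h T X K) where
  toFun l := ⟨g⁻¹ * l * g, conj_mem_LJ₂ R hg hw l.2⟩
  invFun l := ⟨g * l * g⁻¹, conj_mem_LJ₂' R hg hw l.2⟩
  left_inv l := Subtype.ext (by simp only; group)
  right_inv l := Subtype.ext (by simp only; group)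
  map_mul' a b := Subtype.ext (by simp only [Subgroup.coe_mul]; group)

/-- **Mackey's formula for cuspidal characters of two Levi subgroups.** -/
theorem classInner_HC₂ [Finite W] [Fintype Y] (hG : GG cs h T X = ⊤) (J K : Set I) {α : ↥(LJ cs h T X J) → ℂ}
    {β : ↥(LJ cs h T X K) → ℂ} (hα : IsIrrCharacter _ α) (hβ : IsIrrCharacter _ β) (hc : CuspL cs h T X J α)
    (hc' : CuspL cs h T X K β) :
    classInner (HC R J α) (HC R K β) = ((SS₂ R J K α β).ncard : ℂ) := by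
  classical
  have : Fintype W := Fintype.ofFinite W
  have : Fintype ↥(PJ cs h T X J) := Fintype.ofFinite _
  have : Fintype ↥(LJ cs h T X J) := Fintype.ofFinite _
  have : Fintype ↥(PJ cs h T X K) := Fintype.ofFinite _
  have : Fintype ↥(LJ cs h T X K) := Fintype.ofFinite _
  choose r hr using fun w : {w : W // Perm₂ cs h J K w} => exists_rp cs R.nsys (w : W)
  have hαP : IsIrrCharacter _ (α ∘ projL R J) := Core.isIrr_comp _ (projL_surjective R J) hα
  have hβP : IsIrrCharacter _ (β ∘ projL R K) := Core.isIrr_comp _ (projL_surjective R K) hβ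
  have hterm : ∀ w, (Fintype.card (dsub₂ (PJ cs h T X J) (PJ cs h T X K) (r w)) : ℂ)⁻¹ *
      twist₂ (PJ cs h T X J) (PJ cs h T X K) (α ∘ projL R J) (β ∘ projL R K) (r w) =
        if (w : W) ∈ SS₂ R J K α β then 1 else 0 := by
    intro w
    split_ifs with hw
    · obtain ⟨-, g, hg, htw⟩ := hw
      have htr := Tw₂.congr R (Core.isIrr_isClassFunction hβ) hg (hr w) htw
      rw [twist₂_eq_classInner]
      -- the restriction of `α` to `P_J ∩ g P_K g⁻¹` is irreducible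
      let f : ↥(LJ cs h T X J) →* dsub₂ (PJ cs h T X J) (PJ cs h T X K) (r w) :=
        { toFun := fun l => ⟨⟨l, LJ_le_PJ l.2⟩, (mem_dsub₂ _ _ _ _).2 (LJ_le_PJ (conj_mem_LJ₂ R (hr w) w.2 l.2))⟩
          map_one' := rfl
          map_mul' := fun _ _ => rfl }
      have e1 : (β ∘ projL R K) ∘ dhom₂ (PJ cs h T X J) (PJ cs h T X K) (r w) =
          (α ∘ projL R J) ∘ (dsub₂ (PJ cs h T X J) (PJ cs h T X K) (r w)).subtype := by
        funext d
        exact (infl_eq₂ R (hr w) w.2 htr (d : PJ cs h T X J).2 ((mem_dsub₂ _ _ _ _).1 d.2)).symm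
      rw [e1]
      have hi : IsCharacter _ ((α ∘ projL R J) ∘ (dsub₂ (PJ cs h T X J) (PJ cs h T X K) (r w)).subtype) :=
        Core.isCharacter_comp _ (Core.isIrr_isCharacter hαP)
      have h1 : IsIrrCharacter _
          (((α ∘ projL R J) ∘ (dsub₂ (PJ cs h T X J) (PJ cs h T X K) (r w)).subtype) ∘ f) := by
        have : (((α ∘ projL R J) ∘ (dsub₂ (PJ cs h T X J) (PJ cs h T X K) (r w)).subtype) ∘ f) = α := by
          funext l
          exact congrArg α (projL_L R l.2)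
        rw [this]
        exact hα
      exact Core.classInner_irr_self (isIrr_of_comp f hi h1)
    · rw [twist₂_eq_zero_of_sub (PJ cs h T X J) (PJ cs h T X K) (Core.isIrr_isCharacter hαP)
        (Core.isIrr_isCharacter hβP) (r w) (LJ cs h T X J) LJ_le_PJ
        (fun l hl => LJ_le_PJ (conj_mem_LJ₂ R (hr w) w.2 hl)), mul_zero]
      -- `α ≠ β^g`
      have hβc : IsIrrCharacter _ (β ∘ cj₂ R (hr w) w.2) :=
        Core.isIrr_comp (cj₂ R (hr w) w.2).toMonoidHom (cj₂ R (hr w) w.2).surjective hβ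
      have hne : α ≠ β ∘ cj₂ R (hr w) w.2 := by
        intro he
        apply hw
        refine ⟨w.2, r w, hr w, ?_⟩
        intro l hl hl'
        rw [he]
        rfl
      have h4 := Core.classInner_irr_ne hα hβc hne
      rw [Core.classInner_def, mul_eq_zero] at h4
      rcases h4 with h4 | h4
      · exact absurd (inv_eq_zero.1 h4) Core.card_ne_zero_complex
      · rw [← h4]
        refine Finset.sum_congr rfl fun l _ => ?_
        have e1 : (α ∘ projL R J) ⟨(l : Y), LJ_le_PJ l.2⟩ = α l := congrArg α (projL_L R l.2)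
        have e2 : (β ∘ projL R K) ⟨(r w)⁻¹ * (l : Y) * r w, LJ_le_PJ (conj_mem_LJ₂ R (hr w) w.2 l.2)⟩ =
            (β ∘ cj₂ R (hr w) w.2) l := by
          have := projL_L R (conj_mem_LJ₂ R (hr w) w.2 l.2)
          rw [Function.comp_apply, this]
          rfl
        rw [e1, e2]
  have hmain := classInner_indFun_eq_sum₂ (PJ cs h T X J) (PJ cs h T X K) (Core.isIrr_isClassFunction hαP)
    (Core.isIrr_isClassFunction hβP) r ?_ ?_
  · unfold HC
    rw [hmain, Finset.sum_congr rfl fun w _ => hterm w, Finset.sum_boole]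
    congr 1
    rw [← Set.ncard_coe_finset, ← Set.ncard_image_of_injective _ Subtype.val_injective]
    congr 1
    ext w
    constructor
    · rintro ⟨w', hw', rfl⟩
      simpa using hw'
    · intro hw
      exact ⟨⟨w, hw.1⟩, by simpa using hw, rfl⟩
  · -- distinct double cosets
    rintro w w' ⟨a, ha, b, hb, e⟩
    obtain ⟨y₁, hy₁, hc₁⟩ := (mem_PJ_iff_cell R).1 (inv_mem ha)
    obtain ⟨y₂, hy₂, hc₂⟩ := (mem_PJ_iff_cell R).1 hb
    have h1 := Cell.mul_of_length R (perm₂_length' w'.2 hy₁) hc₁ (cell_of_rp (hr w'))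
    have h2 := Cell.mul_of_length R (perm₂_length w.2 hy₂) (cell_of_rp (hr w)) hc₂
    have e2 : a⁻¹ * r w' = r w * b := by rw [e]; group
    rw [e2] at h1
    exact Subtype.ext (perm₂_eq w.2 w'.2 hy₁ hy₂ (Cell.unique R h1 h2))
  · -- the other double cosets
    intro x hx
    obtain ⟨a, ha, b, hb, w, g, hg, e, h1, h2⟩ := exists_min_rep₂ R hG J K x
    rcases perm₂_or h1 h2 with hp | ⟨i, hi, hrad⟩ | ⟨k, hk, hrad⟩
    · exfalso
      have h3 := (hr ⟨w, hp⟩).unique hg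
      refine hx ⟨w, hp⟩ ⟨a, ha, ((r ⟨w, hp⟩)⁻¹ * g) * b, mul_mem (LJ_le_PJ (T_le_LJ h3)) hb, ?_⟩
      rw [e]
      group
    · rw [e, twist₂_mul _ _ (Core.isIrr_isClassFunction hαP) (Core.isIrr_isClassFunction hβP) ha hb]
      have hconj : ∀ l ∈ rad cs h X J i, g⁻¹ * l * g ∈ VJ cs h X K := fun l hl =>
        conj_mem_Sup' R hg (fun x hx => hx.1.1) hrad hl
      have : Fintype (rad cs h X J i) := Fintype.ofFinite _
      refine twist₂_eq_zero_of_sub _ _ (Core.isIrr_isCharacter hαP) (Core.isIrr_isCharacter hβP) g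
        (rad cs h X J i) (rad_le_PJ J i) (fun l hl => VJ_le_PJ (hconj l hl)) ?_
      have h3 : ∀ l : rad cs h X J i, (α ∘ projL R J) ⟨l, rad_le_PJ J i l.2⟩ *
          conj ((β ∘ projL R K) ⟨g⁻¹ * l * g, VJ_le_PJ (hconj l l.2)⟩) =
          α ⟨l, rad_le_LJ J i l.2⟩ * conj (β 1) := by
        intro l
        rw [Function.comp_apply, Function.comp_apply, projL_V R (hconj l l.2)]
        congr 2
        exact projL_L R (rad_le_LJ J i l.2)
      rw [Finset.sum_congr rfl fun l _ => h3 l, ← Finset.sum_mul, hc i hi, zero_mul]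
    · rw [e, twist₂_mul _ _ (Core.isIrr_isClassFunction hαP) (Core.isIrr_isClassFunction hβP) ha hb]
      -- conjugate the radical of `K` into `P_J`
      have hconj : ∀ l ∈ rad cs h X K k, g * l * g⁻¹ ∈ VJ cs h X J := by
        intro l hl
        exact conj_mem_Sup R hg (fun x hx => hx.1.1) hrad hl
      let L : Subgroup Y := (rad cs h X K k).map (MulAut.conj g).toMonoidHom
      have hL : ∀ l ∈ L, g⁻¹ * l * g ∈ rad cs h X K k := by
        rintro _ ⟨u, hu, rfl⟩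
        have : g⁻¹ * ((MulAut.conj g).toMonoidHom u) * g = u := by
          change g⁻¹ * (g * u * g⁻¹) * g = u
          group
        rw [this]
        exact hu
      have hLV : ∀ l ∈ L, l ∈ VJ cs h X J := by
        rintro _ ⟨u, hu, rfl⟩
        exact hconj u hu
      have : Fintype L := Fintype.ofFinite _
      have : Fintype (rad cs h X K k) := Fintype.ofFinite _
      refine twist₂_eq_zero_of_sub _ _ (Core.isIrr_isCharacter hαP) (Core.isIrr_isCharacter hβP) g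
        L (fun l hl => VJ_le_PJ (hLV l hl)) (fun l hl => rad_le_PJ K k (hL l hl)) ?_
      have h3 : ∀ l : L, (α ∘ projL R J) ⟨l, VJ_le_PJ (hLV l l.2)⟩ *
          conj ((β ∘ projL R K) ⟨g⁻¹ * l * g, rad_le_PJ K k (hL l l.2)⟩) =
          α 1 * conj (β ⟨g⁻¹ * l * g, rad_le_LJ K k (hL l l.2)⟩) := by
        intro l
        rw [Function.comp_apply, Function.comp_apply, projL_V R (hLV l l.2)]
        congr 3
        exact projL_L R (rad_le_LJ K k (hL l l.2))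
      rw [Finset.sum_congr rfl fun l _ => h3 l, ← Finset.mul_sum, ← map_sum]
      have h4 : ∑ l : L, β ⟨g⁻¹ * l * g, rad_le_LJ K k (hL l l.2)⟩ = ∑ u : rad cs h X K k, β ⟨u, rad_le_LJ K k u.2⟩ := by
        refine Fintype.sum_bijective (fun l : L => (⟨g⁻¹ * l * g, hL l l.2⟩ : rad cs h X K k)) ?_ _ _ fun l => rfl
        constructor
        · intro a b hab
          have := congrArg Subtype.val hab
          simp only at this
          exact Subtype.ext (mul_left_cancel (mul_right_cancel this))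
        · intro u
          refine ⟨⟨g * u * g⁻¹, ⟨u, u.2, rfl⟩⟩, Subtype.ext ?_⟩
          simp only
          group
      rw [h4, hc' k hk, map_zero, mul_zero]

theorem SS₂.mul {J K L : Set I} {α : ↥(LJ cs h T X J) → ℂ} {β : ↥(LJ cs h T X K) → ℂ}
    {γ : ↥(LJ cs h T X L) → ℂ} {v w : W} (hv : v ∈ SS₂ R J K α β) (hw : w ∈ SS₂ R K L β γ) :
    v * w ∈ SS₂ R J L α γ := by
  obtain ⟨hp, g, hg, ht⟩ := hv
  obtain ⟨hp', g', hg', ht'⟩ := hw
  refine ⟨hp.mul hp', g * g', hg.mul hg', ?_⟩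
  intro l hl hl'
  have h1 := conj_mem_LJ₂ R hg hp hl
  have e : (g * g')⁻¹ * l * (g * g') = g'⁻¹ * (g⁻¹ * l * g) * g' := by group
  have h2 : g'⁻¹ * (g⁻¹ * l * g) * g' ∈ LJ cs h T X L := by rwa [e] at hl'
  rw [ht l hl h1, ht' _ h1 h2]
  congr 1
  exact Subtype.ext e.symm

theorem SS₂.inv {J K : Set I} {α : ↥(LJ cs h T X J) → ℂ} {β : ↥(LJ cs h T X K) → ℂ} {w : W}
    (hw : w ∈ SS₂ R J K α β) : w⁻¹ ∈ SS₂ R K J β α := by
  obtain ⟨hp, g, hg, ht⟩ := hw
  refine ⟨hp.inv, g⁻¹, hg.inv, ?_⟩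
  intro l hl hl'
  have e : g⁻¹ * (g⁻¹⁻¹ * l * g⁻¹) * g = l := by group
  have h2 : g⁻¹ * (g⁻¹⁻¹ * l * g⁻¹) * g ∈ LJ cs h T X K := by rw [e]; exact hl
  rw [ht _ hl' h2]
  congr 1
  exact Subtype.ext e.symm

/-- two elements of `SS₂` differ by an element of `SS₂ J J α α` -/
theorem SS₂_ncard_left {J K : Set I} {α : ↥(LJ cs h T X J) → ℂ} {β : ↥(LJ cs h T X K) → ℂ} {w₀ : W}
    (hw₀ : w₀ ∈ SS₂ R J K α β) : (SS₂ R J K α β).ncard = (SS₂ R J J α α).ncard := by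
  have h1 : SS₂ R J K α β = (fun w => w * w₀) '' (SS₂ R J J α α) := by
    ext w
    constructor
    · intro hw
      exact ⟨w * w₀⁻¹, SS₂.mul R hw (SS₂.inv R hw₀), inv_mul_cancel_right w w₀⟩
    · rintro ⟨v, hv, rfl⟩
      exact SS₂.mul R hv hw₀
  rw [h1, Set.ncard_image_of_injective _ (mul_left_injective w₀)]

theorem SS₂_ncard_right {J K : Set I} {α : ↥(LJ cs h T X J) → ℂ} {β : ↥(LJ cs h T X K) → ℂ} {w₀ : W}
    (hw₀ : w₀ ∈ SS₂ R J K α β) : (SS₂ R J K α β).ncard = (SS₂ R K K β β).ncard := by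
  have h1 : SS₂ R J K α β = (fun w => w₀ * w) '' (SS₂ R K K β β) := by
    ext w
    constructor
    · intro hw
      exact ⟨w₀⁻¹ * w, SS₂.mul R (SS₂.inv R hw₀) hw, mul_inv_cancel_left w₀ w⟩
    · rintro ⟨v, hv, rfl⟩
      exact SS₂.mul R hw₀ hv
  rw [h1, Set.ncard_image_of_injective _ (mul_right_injective w₀)]

/-- **Harish-Chandra series are disjoint or equal:** if `[HC α, HC β] ≠ 0` for cuspidal characters then `HC α = HC β`. -/
theorem HC_eq_of_inner [Finite W] [Fintype Y] (hG : GG cs h T X = ⊤) {J K : Set I} {α : ↥(LJ cs h T X J) → ℂ}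
    {β : ↥(LJ cs h T X K) → ℂ} (hα : IsIrrCharacter _ α) (hβ : IsIrrCharacter _ β) (hc : CuspL cs h T X J α)
    (hc' : CuspL cs h T X K β) (hne : classInner (HC R J α) (HC R K β) ≠ 0) : HC R J α = HC R K β := by
  have h0 : (SS₂ R J K α β).Nonempty := by
    by_contra hcon
    rw [Set.not_nonempty_iff_eq_empty] at hcon
    rw [classInner_HC₂ R hG J K hα hβ hc hc', hcon, Set.ncard_empty, Nat.cast_zero] at hne
    exact hne rfl
  obtain ⟨w₀, hw₀⟩ := h0
  have e1 : classInner (HC R J α) (HC R K β) = ((SS₂ R J K α β).ncard : ℂ) := classInner_HC₂ R hG J K hα hβ hc hc'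
  have e2 : classInner (HC R J α) (HC R J α) = ((SS₂ R J K α β).ncard : ℂ) := by
    rw [classInner_HC₂ R hG J J hα hα hc hc, SS₂_ncard_left R hw₀]
  have e3 : classInner (HC R K β) (HC R K β) = ((SS₂ R J K α β).ncard : ℂ) := by
    rw [classInner_HC₂ R hG K K hβ hβ hc' hc', SS₂_ncard_right R hw₀]
  have e4 : classInner (HC R K β) (HC R J α) = ((SS₂ R J K α β).ncard : ℂ) := by
    rw [← Core.classInner_conj_symm, e1, Complex.conj_natCast]
  have hd : classInner (HC R J α - HC R K β) (HC R J α - HC R K β) = 0 := by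
    rw [Core.classInner_sub_left, Core.classInner_sub_right, Core.classInner_sub_right, e1, e2, e3, e4]
    ring
  exact sub_eq_zero.1 (Core.classInner_self_eq_zero hd)

end Cfsg.Agent.H743.GG
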