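import Cfsg.Agent.H743.GG.CountAbs
import Cfsg.Agent.H743.GG.HC2
import Cfsg.Agent.H40.OC.Cusp
import Cfsg.Agent.H45.GG.Series
import Cfsg.Agent.H148.GG.Count
import Cfsg.Agent.H148.GG.FThree
import Cfsg.Agent.H92.GG.MultOdd

/-!
# The counting theorem for root group data (S4884, own characteristic; helper743)

`MultOne cs h T X` : the Gelfand-Graev characters of the standard Levi subgroups are multiplicity free;
`exists_nd` : there is a nondegenerate linear character of `U`;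
`count` : `mG R D χ ∈ {0, 1, -1}` for all irreducible `χ`;
`multOne_of`, `multOne_odd`, `multOne_pin` : `MultOne` from one nondegenerate character for each Levi subgroup (helper148's
`classInner_nd`), for tori of odd order (helper148's `gg1`), from a pinning (helper92's `mult_le_one_pin`).
-/

set_option autoImplicit false

open scoped ComplexConjugate
open Cfsg

namespace Cfsg.Agent.H743.GG

open Cfsg.Agent.Characters
open Cfsg.Agent.H53.HC Cfsg.Agent.H641.Gow Cfsg.Agent.H148.GG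

open CoxeterSystem Cfsg.Agent.ChevalleyStructure.CoxeterGeom Cfsg.Agent.Tits.Roots Cfsg.Agent.Tits.Core
  Cfsg.Agent.Tits.Exchange Cfsg.Agent.Nodes.Reps Cfsg.Agent.Nodes.BNOf Cfsg.Agent.Nodes.StabComb
  Cfsg.Agent.Nodes.Bruhat Cfsg.Agent.Nodes.OppDec Cfsg.Agent.Nodes.LeviDec

variable {I W Y : Type*} [Fintype I] [DecidableEq I] [Group W] [Group Y] {M : CoxeterMatrix I}
  {cs : CoxeterSystem M W} {A : I → I → ℤ} {h : IsCartan M A} {p : ℕ} {T : Subgroup Y} {n : I → Y}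
  {X : (I → ℤ) → Subgroup Y}

/-- the Gelfand-Graev characters of the standard Levi subgroups are multiplicity free -/
def MultOne (cs : CoxeterSystem M W) (h : IsCartan M A) (T : Subgroup Y) (X : (I → ℤ) → Subgroup Y) : Prop :=
  ∀ (J : Set I) [Fintype ↥(LJ cs h T X J)] [Fintype ↥(UJ cs h X J)] (ψ : ↥(UJ cs h X J) →* ℂˣ), Nd cs h X J ψ →
    ∀ χ : ↥(LJ cs h T X J) → ℂ, IsIrrCharacter ↥(LJ cs h T X J) χ →
      classInner (χ ∘ Subgroup.inclusion (H148.GG.UJ_le_LJ (cs := cs) (h := h) (T := T) (X := X) (J := J)))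
          (fun u : ↥(UJ cs h X J) => (ψ u : ℂ)) = 0 ∨
        classInner (χ ∘ Subgroup.inclusion (H148.GG.UJ_le_LJ (cs := cs) (h := h) (T := T) (X := X) (J := J)))
          (fun u : ↥(UJ cs h X J) => (ψ u : ℂ)) = 1

theorem MultOne.univ [Finite W] [Fintype Y] (hm : MultOne cs h T X) (hG : GG cs h T X = ⊤)
    [Fintype ↥(UJ cs h X Set.univ)] {ψ : ↥(UJ cs h X Set.univ) →* ℂˣ} (hψ : Nd cs h X Set.univ ψ) {χ : Y → ℂ}
    (hχ : IsIrrCharacter Y χ) :
    classInner (χ ∘ (UJ cs h X Set.univ).subtype) (fun u : ↥(UJ cs h X Set.univ) => (ψ u : ℂ)) = 0 ∨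
      classInner (χ ∘ (UJ cs h X Set.univ).subtype) (fun u : ↥(UJ cs h X Set.univ) => (ψ u : ℂ)) = 1 := by
  classical
  have : Fintype ↥(LJ cs h T X Set.univ) := Fintype.ofFinite _
  have hL : ∀ y : Y, y ∈ LJ cs h T X Set.univ := by
    intro y
    rw [LJ_univ, hG]
    trivial
  let f : ↥(LJ cs h T X Set.univ) →* Y := (LJ cs h T X Set.univ).subtype
  have hf : Function.Surjective f := fun y => ⟨⟨y, hL y⟩, rfl⟩
  exact hm Set.univ ψ hψ (χ ∘ f) (Core.isIrr_comp f hf hχ)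

open H40.OC

variable (R : RGD cs h p T n X) {F : I → Type*} [∀ i, Field (F i)] (D : Adj T X F)

include R D in
/-- **Nondegenerate linear characters exist.** -/
theorem exists_nd [Finite W] [∀ i, Finite (F i)] :
    ∃ ψ : ↥(UJ cs h X Set.univ) →* ℂˣ, Nd cs h X Set.univ ψ := by
  classical
  obtain ⟨lam, hl⟩ := exists_lam R D
  refine ⟨(∏ i, lam i).comp (Subgroup.inclusion (Cfsg.Agent.Nodes.Bruhat.UJ_le_U Set.univ)), ⟨?_, ?_⟩⟩
  · intro x hx hxs u hu' hu
    rw [MonoidHom.comp_apply, MonoidHom.finsetProd_apply]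
    refine Finset.prod_eq_one fun i _ => ?_
    have h1 := Cfsg.Agent.Nodes.Bruhat.UJ_le_U Set.univ hu'
    refine hl.one i ⟨u, h1⟩ ((mem_DV' R D h1 h1).2 ?_)
    rw [co_apply, cor_V R i (RGD.le_Sup (S := RGD.PosNe cs h i) ⟨hx.1, hx.2.1, hxs i⟩ hu), map_one]
  · intro i _
    obtain ⟨u, hu⟩ : ∃ u, lam i u ≠ 1 := by
      by_contra hcon
      push Not at hcon
      exact hl.ne i (MonoidHom.ext hcon)
    have h1 : ((cor R i u : ↥(X (sr i))) : Y) ∈ UU cs h X := X_le_UU i (cor R i u).2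
    have h2 : ((cor R i u : ↥(X (sr i))) : Y) ∈ UJ cs h X Set.univ :=
      RGD.le_Sup (S := PosJ cs h Set.univ) (sr_mem_PosJ (Set.mem_univ i)) (cor R i u).2
    refine ⟨_, h2, (cor R i u).2, ?_⟩
    rw [MonoidHom.comp_apply, MonoidHom.finsetProd_apply, Finset.prod_eq_single i]
    · intro hc
      apply hu
      change lam i ⟨_, h1⟩ = 1 at hc
      have h3 : lam i ((⟨_, h1⟩ : ↥(UU cs h X))⁻¹ * u) = 1 := by
        refine hl.one i _ ((mem_DV' R D (Subtype.prop _) (Subtype.prop _)).2 ?_)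
        rw [Subtype.coe_eta, co_apply, map_mul, map_inv, cor_X R i (cor R i u).2 h1, Subtype.coe_eta, inv_mul_cancel,
          map_one]
      rw [map_mul, map_inv, hc, inv_one, one_mul] at h3
      exact h3
    · intro j _ hj
      refine hl.one j _ ((mem_DV' R D (Subtype.prop _) (Subtype.prop _)).2 ?_)
      exact co_ne R D hj (cor R i u).2 h1
    · intro hc
      exact absurd (Finset.mem_univ i) hc

/-- the cuspidal pairs -/
structure CP (cs : CoxeterSystem M W) (h : IsCartan M A) (T : Subgroup Y) (X : (I → ℤ) → Subgroup Y) where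
  J : Set I
  α : ↥(LJ cs h T X J) → ℂ
  irr : IsIrrCharacter _ α
  cusp : CuspL cs h T X J α

/-- **The counting theorem:** if the Gelfand-Graev characters of the Levi subgroups are multiplicity free then
`[χ, Ξ] ∈ {0, 1, -1}` for all irreducible characters `χ`. -/
theorem count [Finite W] [Finite Y] [∀ i, Finite (F i)] (hG : GG cs h T X = ⊤)
    (hT : ∀ t : T, (∀ i, D.a i t = 1) → t = 1) (hm : MultOne cs h T X) (χ : IrrCharacter Y) :
    mG R D (χ : Y → ℂ) = 0 ∨ mG R D (χ : Y → ℂ) = 1 ∨ mG R D (χ : Y → ℂ) = -1 := by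
  classical
  have : Fintype Y := Fintype.ofFinite _
  have : Fintype ↥(UJ cs h X Set.univ) := Fintype.ofFinite _
  obtain ⟨lam, hl⟩ := exists_lam R D
  obtain ⟨ψ, hψ⟩ := exists_nd R D
  have hψc : IsCharacter ↥(UJ cs h X Set.univ) (fun u => (ψ u : ℂ)) := Linear.isCharacter_hom ψ
  have hΓ : IsCharacter Y (indFun (UJ cs h X Set.univ) fun u : ↥(UJ cs h X Set.univ) => (ψ u : ℂ)) :=
    Brauer.isCharacter_indFun _ hψc
  have hfrob : ∀ ξ : Y → ℂ, IsClassFunction Y ξ →
      classInner ξ (indFun (UJ cs h X Set.univ) fun u : ↥(UJ cs h X Set.univ) => (ψ u : ℂ)) =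
        classInner (ξ ∘ (UJ cs h X Set.univ).subtype) (fun u : ↥(UJ cs h X Set.univ) => (ψ u : ℂ)) := by
    intro ξ hξ
    rw [← Core.classInner_conj_symm, Cfsg.Agent.OddOrderCharacters.Clifford.classInner_indFun _ _ _ hξ,
      Core.classInner_conj_symm]
    rfl
  have hint : ∀ χ : Y → ℂ, IsIrrCharacter Y χ → ∃ k : ℤ, mG R D χ = k := fun χ hχ =>
    mG_isInt R D (Core.isIrr_isCharacter hχ)
  have hXi : ∀ χ : Y → ℂ, IsIrrCharacter Y χ → classInner (Xi lam) χ = mG R D χ := by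
    intro χ hχ
    obtain ⟨c, hc⟩ := hint χ hχ
    rw [← Core.classInner_conj_symm, classInner_Xi R D hl (Core.isIrr_isClassFunction hχ), hc, map_intCast]
  obtain ⟨m, hM⟩ := Core.classInner_isNat hΓ hΓ
  have hle : (∏ i, Nat.card (F i)) ≤ m := by
    have h1 := gg2 R D hψ
    rw [hM, Complex.natCast_re] at h1
    exact_mod_cast h1
  have hN : classInner (Xi lam) (Xi lam) = ((∏ i, Nat.card (F i) : ℕ) : ℂ) := by
    rw [classInner_Xi_Xi R D hG hT hl]
    push_cast
    rfl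
  have hHC : ∀ l : CP cs h T X, IsCharacter Y (HC R l.J l.α) := by
    intro l
    exact Cfsg.Agent.S0148.result _ _ (Core.isCharacter_comp _ (Core.isIrr_isCharacter l.irr))
  have hf3 : ∀ l : CP cs h T X, ∃ e : ℂ, (e = 0 ∨ e = 1) ∧
      classInner (HC R l.J l.α) (indFun (UJ cs h X Set.univ) fun u : ↥(UJ cs h X Set.univ) => (ψ u : ℂ)) = e ∧
      (classInner (HC R l.J l.α) (Xi lam) = e ∨ classInner (HC R l.J l.α) (Xi lam) = -e) := by
    intro l
    have : Fintype ↥(LJ cs h T X l.J) := Fintype.ofFinite _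
    have : Fintype ↥(UJ cs h X l.J) := Fintype.ofFinite _
    have : Fintype l.J := Fintype.ofFinite _
    have h1 := hm l.J _ (hψ.res (J := l.J)) l.α l.irr
    refine ⟨_, h1, ?_, ?_⟩
    · rw [hfrob _ (Core.isCharacter_isClassFunction (hHC l))]
      exact f3 R hG D (Core.isIrr_isClassFunction l.irr) hψ hψ.res
    · rw [classInner_Xi R D hl (Core.isCharacter_isClassFunction (hHC l)), mG_HC R D hG l.J
        (Core.isIrr_isClassFunction l.irr), mJ_cusp R D (hψ.res (J := l.J)) (Core.isIrr_isCharacter l.irr) l.cusp]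
      rcases neg_one_pow_eq_or ℂ (Fintype.card l.J) with h2 | h2
      · left
        rw [h2, one_mul]
      · right
        rw [h2, neg_one_mul]
  have key := count_abs hΓ (fun χ hχ => ?_) (isClass_Xi lam) (fun χ hχ => ?_) hN hM hle (fun l : CP cs h T X => HC R l.J l.α)
    hHC (fun χ hχ => ?_) (fun l l' hne => HC_eq_of_inner R hG l.irr l'.irr l.cusp l'.cusp hne) (fun l => ?_) (fun l => ?_) χ.2
  · rw [hXi _ χ.2] at key
    exact key
  · have h1 := hm.univ hG hψ hχ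
    rw [← hfrob _ (Core.isIrr_isClassFunction hχ)] at h1
    rw [← Core.classInner_conj_symm]
    rcases h1 with h1 | h1 <;> rw [h1]
    · left; simp
    · right; simp
  · obtain ⟨k, hk⟩ := hint χ hχ
    exact ⟨k, by rw [hXi χ hχ, hk]⟩
  · obtain ⟨J, α, h1, h2, h3⟩ := H45.GG.exists_series R hχ
    exact ⟨⟨J, α, h1, h2⟩, h3⟩
  · obtain ⟨e, he, h1, -⟩ := hf3 l
    rw [h1]
    exact he
  · obtain ⟨e, -, h1, h2⟩ := hf3 l
    rw [h1]
    exact h2

/-! ### Multiplicity one -/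

include R D

/-- one nondegenerate character for each Levi subgroup is enough -/
theorem multOne_of [Finite W] [Finite Y] [∀ i, Finite (F i)]
    (h1 : ∀ (J : Set I) [Fintype ↥(LJ cs h T X J)] [Fintype ↥(UJ cs h X J)], ∃ ψ : ↥(UJ cs h X J) →* ℂˣ, Nd cs h X J ψ ∧
      ∀ χ : ↥(LJ cs h T X J) → ℂ, IsIrrCharacter ↥(LJ cs h T X J) χ →
        classInner (χ ∘ Subgroup.inclusion (H148.GG.UJ_le_LJ (cs := cs) (h := h) (T := T) (X := X) (J := J)))
            (fun u : ↥(UJ cs h X J) => (ψ u : ℂ)) = 0 ∨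
          classInner (χ ∘ Subgroup.inclusion (H148.GG.UJ_le_LJ (cs := cs) (h := h) (T := T) (X := X) (J := J)))
            (fun u : ↥(UJ cs h X J) => (ψ u : ℂ)) = 1) : MultOne cs h T X := by
  intro J _ _ ψ hψ χ hχ
  obtain ⟨ψ₀, hψ₀, h2⟩ := h1 J
  rw [classInner_nd R D (Core.isIrr_isClassFunction hχ) hψ hψ₀]
  exact h2 χ hχ

/-- tori of odd order (helper148) -/
theorem multOne_odd [Finite W] [Finite Y] [∀ i, Finite (F i)] {φ : Y → Y} (hφ : H148.GG.Anti R φ)
    (hT : Odd (Nat.card T)) : MultOne cs h T X := by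
  intro J _ _ ψ hψ χ hχ
  have : Fintype Y := Fintype.ofFinite _
  exact gg1 R hφ D hT J hψ hχ

/-- from a pinning (helper92) -/
theorem multOne_pin [Finite W] [Finite Y] [∀ i, Finite (F i)] {φ : Y → Y} (hφ : H92.GG.Anti cs h T X φ) {e : I → Y}
    (P : H92.GG.Pin cs h n X Set.univ e) {ψ : ↥(UJ cs h X Set.univ) →* ℂˣ} (hψ : Nd cs h X Set.univ ψ)
    (Q : H92.GG.PinPsi R φ Set.univ e (H92.GG.ext _ ψ)) : MultOne cs h T X := by
  refine multOne_of R D fun J _ _ => ⟨ψ.comp (Subgroup.inclusion H148.GG.UJ_le_U), hψ.res, fun χ hχ => ?_⟩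
  have : Fintype Y := Fintype.ofFinite _
  have hN := hψ.res (J := J)
  have hext : ∀ y ∈ UJ cs h X J, H92.GG.ext _ (ψ.comp (Subgroup.inclusion (H148.GG.UJ_le_U (J := J)))) y =
      H92.GG.ext _ ψ y := by
    intro y hy
    rw [H92.GG.ext_of_mem _ hy, H92.GG.ext_of_mem _ (H148.GG.UJ_le_U hy)]
    rfl
  refine H92.GG.mult_le_one_pin R hφ _ (fun a ha hna x hx => hN.triv a ha hna x _ hx) (fun i hi => ?_)
    (e := e) ⟨fun i _ => P.mem i (Set.mem_univ i), fun i _ => P.mu i (Set.mem_univ i), P.braid⟩ ?_ ?_ hχ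
  · obtain ⟨u, hu', hu, hne⟩ := hN.ne i hi
    exact ⟨u, hu, hne⟩
  · intro i hi j hj w g hw hg hwij hx
    refine Q i (Set.mem_univ i) j (Set.mem_univ j) w g ?_ hg hwij fun x hxi => ?_
    · exact mem_WJ_univ cs w
    · have h3 : g * φ x * g⁻¹ ∈ X (sr j) := by
        have h4 := R.conj_mem hg (isRoot_sr cs h i).neg (hφ.root _ (isRoot_sr cs h i) x hxi)
        rwa [map_neg, hwij] at h4
      rw [← hext x (H148.GG.X_le_UJ (sr_mem_PosJ hi) hxi), ← hext _ (H148.GG.X_le_UJ (sr_mem_PosJ hj) h3)]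
      exact hx x hxi
  · intro ψ' hψ'
    let ψ₁ : ↥(UJ cs h X J) →* ℂˣ :=
      { toFun := fun u => ψ' u
        map_one' := hψ'.one
        map_mul' := fun a b => hψ'.mul _ a.2 _ b.2 }
    have h1 : Nd cs h X J ψ₁ := by
      refine ⟨fun x hx hxs u hu' hu => hψ'.high x hx hxs u hu, fun i hi => ?_⟩
      obtain ⟨x, hx, hne⟩ := hψ'.simple i hi
      exact ⟨x, H148.GG.X_le_UJ (sr_mem_PosJ hi) hx, hx, hne⟩
    obtain ⟨t, ht, hc⟩ := Nd.exists_conj R D hN h1
    refine ⟨t, ht, fun u hu => ?_⟩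
    rw [H92.GG.ext_of_mem _ (H148.GG.conjT_UJ R ht hu), ← hc u hu]
    rfl

end Cfsg.Agent.H743.GG
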