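import Cfsg.Agent.Characters.Core

/-!
# The counting theorem (S4884, own characteristic, helper743; idea of helper634)

`Γ` a multiplicity free character, `Ξ` a generalised character with `[Ξ, Ξ] ≤ [Γ, Γ]`, `R l` (`l : Λ`) characters such that
every irreducible character is in some `R l`, `R l` and `R m` are equal or disjoint, `[R l, Γ] ≤ 1` and
`[R l, Ξ] = ± [R l, Γ]`. Then `[χ, Ξ] ∈ {0, 1, -1}` for all irreducible `χ`.
-/

set_option autoImplicit false

open Cfsg Cfsg.Agent.Characters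
open scoped ComplexConjugate

namespace Cfsg.Agent.H743.GG

variable {G : Type*} [Group G] [Fintype G]

/-- characters with a common constituent are not orthogonal -/
theorem inner_ne_zero {α β χ : G → ℂ} (hα : IsCharacter G α) (hβ : IsCharacter G β) (hχ : IsIrrCharacter G χ)
    (h1 : classInner α χ ≠ 0) (h2 : classInner β χ ≠ 0) : classInner α β ≠ 0 := by
  classical
  have : Finite (IrrCharacter G) := Core.finite_irr
  let _ : Fintype (IrrCharacter G) := Fintype.ofFinite _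
  rw [Core.classInner_eq_sum (Core.isCharacter_isClassFunction hα) (Core.isCharacter_isClassFunction hβ)]
  have key : ∀ ψ : IrrCharacter G, ∃ m : ℕ, classInner α (ψ : G → ℂ) * conj (classInner β (ψ : G → ℂ)) = m := by
    intro ψ
    obtain ⟨a, ha⟩ := Core.classInner_isNat hα (Core.isIrr_isCharacter ψ.2)
    obtain ⟨b, hb⟩ := Core.classInner_isNat hβ (Core.isIrr_isCharacter ψ.2)
    exact ⟨a * b, by rw [ha, hb]; simp⟩
  choose m hm using key
  rw [Finset.sum_congr rfl fun ψ _ => hm ψ]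
  intro h0
  have h3 : ∑ ψ : IrrCharacter G, m ψ = 0 := by exact_mod_cast h0
  rw [Finset.sum_eq_zero_iff] at h3
  have h4 := hm ⟨χ, hχ⟩
  rw [h3 _ (Finset.mem_univ _), Nat.cast_zero] at h4
  rcases mul_eq_zero.1 h4 with h5 | h5
  · exact h1 h5
  · rw [map_eq_zero] at h5
    exact h2 h5

/-- **The counting theorem.** -/
theorem count_abs {Γ Ξ : G → ℂ} (hΓ : IsCharacter G Γ)
    (hmf : ∀ χ, IsIrrCharacter G χ → classInner Γ χ = 0 ∨ classInner Γ χ = 1)
    (hΞ : IsClassFunction G Ξ) (hint : ∀ χ, IsIrrCharacter G χ → ∃ k : ℤ, classInner Ξ χ = k)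
    {N M : ℕ} (hN : classInner Ξ Ξ = N) (hM : classInner Γ Γ = M) (hle : N ≤ M)
    {Λ : Type*} (R : Λ → G → ℂ) (hR : ∀ l, IsCharacter G (R l))
    (h1 : ∀ χ, IsIrrCharacter G χ → ∃ l, classInner (R l) χ ≠ 0)
    (h2 : ∀ l m, classInner (R l) (R m) ≠ 0 → R l = R m)
    (h3 : ∀ l, classInner (R l) Γ = 0 ∨ classInner (R l) Γ = 1)
    (h4 : ∀ l, classInner (R l) Ξ = classInner (R l) Γ ∨ classInner (R l) Ξ = -classInner (R l) Γ)
    {χ : G → ℂ} (hχ : IsIrrCharacter G χ) :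
    classInner Ξ χ = 0 ∨ classInner Ξ χ = 1 ∨ classInner Ξ χ = -1 := by
  classical
  have : Finite (IrrCharacter G) := Core.finite_irr
  let _ : Fintype (IrrCharacter G) := Fintype.ofFinite _
  have hΓc := Core.isCharacter_isClassFunction hΓ
  -- the constituents of `Γ`
  let S : Finset (IrrCharacter G) := Finset.univ.filter fun ψ => classInner Γ (ψ : G → ℂ) ≠ 0
  let D : Finset (IrrCharacter G) := Finset.univ.filter fun ψ => classInner Ξ (ψ : G → ℂ) ≠ 0
  have hS : S.card = M := by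
    have h5 := Core.classInner_eq_sum hΓc hΓc
    rw [hM] at h5
    have h6 : ∀ ψ : IrrCharacter G, classInner Γ (ψ : G → ℂ) * conj (classInner Γ (ψ : G → ℂ)) =
        if classInner Γ (ψ : G → ℂ) ≠ 0 then 1 else 0 := by
      intro ψ
      rcases hmf _ ψ.2 with h7 | h7
      · rw [h7]; simp
      · rw [h7]; simp
    rw [Finset.sum_congr rfl fun ψ _ => h6 ψ, Finset.sum_boole] at h5
    exact_mod_cast h5.symm
  -- choose the series
  choose l hl using fun ψ : IrrCharacter G => h1 _ ψ.2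
  have hΓl : ∀ ψ ∈ S, classInner (R (l ψ)) Γ = 1 := by
    intro ψ hψ
    rcases h3 (l ψ) with h5 | h5
    · exfalso
      exact inner_ne_zero (hR _) hΓ ψ.2 (hl ψ) (Finset.mem_filter.1 hψ).2 h5
    · exact h5
  have hex : ∀ ψ ∈ S, ∃ ξ : IrrCharacter G, classInner (R (l ψ)) (ξ : G → ℂ) ≠ 0 ∧ classInner Ξ (ξ : G → ℂ) ≠ 0 := by
    intro ψ hψ
    by_contra hcon
    push Not at hcon
    have h5 : classInner (R (l ψ)) Ξ ≠ 0 := by
      rcases h4 (l ψ) with h6 | h6
      · rw [h6, hΓl ψ hψ]; exact one_ne_zero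
      · rw [h6, hΓl ψ hψ]; exact neg_ne_zero.2 one_ne_zero
    apply h5
    rw [Core.classInner_eq_sum (Core.isCharacter_isClassFunction (hR _)) hΞ]
    refine Finset.sum_eq_zero fun ξ _ => ?_
    by_cases h6 : classInner (R (l ψ)) (ξ : G → ℂ) = 0
    · rw [h6, zero_mul]
    · rw [hcon ξ h6, map_zero, mul_zero]
  choose! ξ hξ1 hξ2 using hex
  have hinj : Set.InjOn ξ (S : Set (IrrCharacter G)) := by
    intro ψ hψ φ hφ he
    have hψ' : ψ ∈ S := hψ
    have hφ' : φ ∈ S := hφ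
    have h5 : classInner (R (l ψ)) (R (l φ)) ≠ 0 :=
      inner_ne_zero (hR _) (hR _) (ξ ψ).2 (hξ1 ψ hψ') (by rw [he]; exact hξ1 φ hφ')
    have h6 := h2 _ _ h5
    by_contra hne
    have h7 := hΓl ψ hψ'
    rw [Core.classInner_eq_sum (Core.isCharacter_isClassFunction (hR _)) hΓc] at h7
    have key : ∀ θ : IrrCharacter G, ∃ m : ℕ, classInner (R (l ψ)) (θ : G → ℂ) * conj (classInner Γ (θ : G → ℂ)) = m := by
      intro θ
      obtain ⟨a, ha⟩ := Core.classInner_isNat (hR (l ψ)) (Core.isIrr_isCharacter θ.2)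
      obtain ⟨b, hb⟩ := Core.classInner_isNat hΓ (Core.isIrr_isCharacter θ.2)
      exact ⟨a * b, by rw [ha, hb]; simp⟩
    choose m hm using key
    rw [Finset.sum_congr rfl fun θ _ => hm θ] at h7
    have h8 : ∑ θ : IrrCharacter G, m θ = 1 := by exact_mod_cast h7
    have h9 : 1 ≤ m ψ := by
      rw [Nat.one_le_iff_ne_zero]
      intro h0
      have h10 := hm ψ
      rw [h0, Nat.cast_zero] at h10
      rcases mul_eq_zero.1 h10 with h11 | h11
      · exact hl ψ h11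
      · rw [map_eq_zero] at h11
        exact (Finset.mem_filter.1 hψ').2 h11
    have h9' : 1 ≤ m φ := by
      rw [Nat.one_le_iff_ne_zero]
      intro h0
      have h10 := hm φ
      rw [h0, Nat.cast_zero, h6] at h10
      rcases mul_eq_zero.1 h10 with h11 | h11
      · exact hl φ h11
      · rw [map_eq_zero] at h11
        exact (Finset.mem_filter.1 hφ').2 h11
    have h10 : ∑ θ ∈ ({ψ, φ} : Finset (IrrCharacter G)), m θ ≤ ∑ θ : IrrCharacter G, m θ :=
      Finset.sum_le_sum_of_subset (Finset.subset_univ _)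
    rw [Finset.sum_pair hne, h8] at h10
    omega
  have hSD : S.card ≤ D.card := by
    refine Finset.card_le_card_of_injOn ξ (fun ψ hψ => ?_) hinj
    exact Finset.mem_filter.2 ⟨Finset.mem_univ _, hξ2 ψ hψ⟩
  -- the norm of `Ξ`
  choose k hk using fun ψ : IrrCharacter G => hint _ ψ.2
  have hnorm : (∑ ψ : IrrCharacter G, (k ψ) ^ 2 : ℤ) = N := by
    have h5 := Core.classInner_eq_sum hΞ hΞ
    rw [hN] at h5
    have h6 : ∀ ψ : IrrCharacter G, classInner Ξ (ψ : G → ℂ) * conj (classInner Ξ (ψ : G → ℂ)) = ((k ψ ^ 2 : ℤ) : ℂ) := by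
      intro ψ
      rw [hk ψ]
      push_cast
      rw [map_intCast, sq]
    rw [Finset.sum_congr rfl fun ψ _ => h6 ψ] at h5
    exact_mod_cast h5.symm
  have hD : ∀ ψ, ψ ∈ D ↔ k ψ ≠ 0 := by
    intro ψ
    rw [Finset.mem_filter, hk ψ, Int.cast_ne_zero]
    exact ⟨fun h => h.2, fun h => ⟨Finset.mem_univ _, h⟩⟩
  have hsum : (∑ ψ ∈ D, (k ψ) ^ 2 : ℤ) = N := by
    rw [← hnorm]
    refine Finset.sum_subset (Finset.subset_univ _) fun ψ _ hψ => ?_
    rw [hD, not_not] at hψ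
    rw [hψ]; norm_num
  have hge : ∀ ψ ∈ D, 1 ≤ (k ψ) ^ 2 := by
    intro ψ hψ
    rw [hD] at hψ
    have := sq_nonneg (k ψ)
    have h5 : k ψ ^ 2 ≠ 0 := pow_ne_zero _ hψ
    omega
  have hle2 : (∑ ψ ∈ D, (k ψ) ^ 2 : ℤ) ≤ D.card := by
    rw [hsum]
    exact_mod_cast hle.trans (hS.symm.le.trans hSD)
  have hone : ∀ ψ ∈ D, (k ψ) ^ 2 = 1 := by
    intro ψ hψ
    by_contra hne
    have h5 : (∑ _ψ ∈ D, (1 : ℤ)) < ∑ ψ ∈ D, (k ψ) ^ 2 :=
      Finset.sum_lt_sum hge ⟨ψ, hψ, lt_of_le_of_ne (hge ψ hψ) (Ne.symm hne)⟩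
    rw [Finset.sum_const, nsmul_eq_mul, mul_one] at h5
    exact absurd hle2 (not_le.2 h5)
  by_cases h5 : (⟨χ, hχ⟩ : IrrCharacter G) ∈ D
  · right
    have h6 := hone _ h5
    have h7 := hk ⟨χ, hχ⟩
    have h9 : k ⟨χ, hχ⟩ = 1 ∨ k ⟨χ, hχ⟩ = -1 := by
      have h10 : (k ⟨χ, hχ⟩ - 1) * (k ⟨χ, hχ⟩ + 1) = 0 := by linear_combination h6
      rcases mul_eq_zero.1 h10 with h11 | h11
      · left; omega
      · right; omega
    rcases h9 with h8 | h8 <;> rw [h8] at h7
    · left; simpa using h7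
    · right; simpa using h7
  · left
    rw [hD, not_not] at h5
    have h7 := hk ⟨χ, hχ⟩
    rw [h5] at h7
    simpa using h7

end Cfsg.Agent.H743.GG
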